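import Groth.Agent.ParCx.Pivot

/-!
Exactness of the complex of parabolic permutation modules of a word of distinct simple reflections.
-/

set_option autoImplicit false

open Matrix W4c3dlvarstrsh

namespace Groth.Agent.ParCx

variable {F : Type*} [Field F] {m r : ℕ}

/-- the chosen reduced element -/
noncomputable def rep (J : Finset (Fin m)) (g : GL (Fin (m + 1)) F) : GL (Fin (m + 1)) F :=
  (exists_rep J g).choose

lemma isRep_rep (J : Finset (Fin m)) (g : GL (Fin (m + 1)) F) : IsRep J g (rep J g) :=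
  (exists_rep J g).choose_spec

/-- the pivots of a Borel coset -/
noncomputable def piv (g : GL (Fin (m + 1)) F) : Fin (m + 1) → Fin (m + 1) :=
  pv (rep (∅ : Finset (Fin m)) g)

lemma piv_eq {g x : GL (Fin (m + 1)) F} (h : g⁻¹ * x ∈ parabolic F (∅ : Finset (Fin m)))
    (hinj : Function.Injective (pv x)) : piv g = pv x :=
  (rep_unique ⟨h, hinj, inc_empty _⟩ (isRep_rep ∅ g)).2

lemma piv_mul (g : GL (Fin (m + 1)) F) {b : GL (Fin (m + 1)) F} (hb : b ∈ parabolic F (∅ : Finset (Fin m))) :
    piv (g * b) = piv g :=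
  piv_eq (by
    rw [_root_.mul_inv_rev, mul_assoc]
    exact mul_mem (inv_mem hb) (isRep_rep ∅ g).1) (isRep_rep ∅ g).2.1

lemma rep_congr (J : Finset (Fin m)) (g : GL (Fin (m + 1)) F) {p : GL (Fin (m + 1)) F} (hp : p ∈ parabolic F J) :
    (rep J g)⁻¹ * rep J (g * p) ∈ parabolic F (∅ : Finset (Fin m)) := by
  have h := isRep_rep J (g * p)
  refine (rep_unique (isRep_rep J g) ⟨?_, h.2⟩).1
  have := mul_mem hp h.1
  rwa [_root_.mul_inv_rev, mul_assoc, mul_inv_cancel_left] at this

lemma piv_rep (J : Finset (Fin m)) (g : GL (Fin (m + 1)) F) : piv (rep J g) = pv (rep J g) :=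
  piv_eq (by rw [inv_mul_cancel]; exact one_mem _) (isRep_rep J g).2.1

/-- a coset which is minimal for `J` is its own reduced element, the others get a larger potential -/
lemma rep_dichotomy (J : Finset (Fin m)) (g : GL (Fin (m + 1)) F) :
    (Inc J (piv g) ∧ g⁻¹ * rep J g ∈ parabolic F (∅ : Finset (Fin m))) ∨
      (¬ Inc J (piv g) ∧ pot (piv g) < pot (piv (rep J g))) := by
  have h0 := isRep_rep (∅ : Finset (Fin m)) g
  by_cases hinc : Inc J (piv g)
  · refine Or.inl ⟨hinc, ?_⟩
    have h1 := (rep_unique (g := g) ⟨borel_le J h0.1, h0.2.1, hinc⟩ (isRep_rep J g)).1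
    have := mul_mem h0.1 h1
    rwa [mul_assoc, mul_inv_cancel_left] at this
  · refine Or.inr ⟨hinc, ?_⟩
    obtain ⟨σ, hσ, hs, hlt⟩ := exists_sort (J := J) (piv g) h0.2.1
    have h2 : IsRep J g (rep ∅ g * permG σ) := by
      refine ⟨?_, ?_, ?_⟩
      · rw [← mul_assoc]; exact mul_mem (borel_le J h0.1) (permG_mem hσ)
      · rw [pv_mul_permG]; exact h0.2.1.comp σ.injective
      · rw [pv_mul_permG]; exact hs
    rw [piv_rep, (rep_unique h2 (isRep_rep J g)).2, pv_mul_permG]
    exact hlt hinc

variable (ω : Fin r ↪ Fin m)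

/-- the letters for which the coset is minimal -/
noncomputable def asc (g : GL (Fin (m + 1)) F) : Finset (Fin r) := by
  classical exact Finset.univ.filter fun a => piv g (ω a).castSucc < piv g (ω a).succ

lemma inc_map_iff (T : Finset (Fin r)) (g : GL (Fin (m + 1)) F) :
    Inc (T.map ω) (piv g) ↔ T ⊆ asc ω g := by
  classical
  rw [inc_iff]
  constructor
  · intro h a ha
    exact Finset.mem_filter.2 ⟨Finset.mem_univ _, h _ (Finset.mem_map.2 ⟨a, ha, rfl⟩)⟩
  · intro h k hk
    obtain ⟨a, ha, rfl⟩ := Finset.mem_map.1 hk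
    exact (Finset.mem_filter.1 (h ha)).2

lemma asc_congr {g g' : GL (Fin (m + 1)) F} (h : piv g = piv g') : asc ω g = asc ω g' := by
  classical simp only [asc, h]

/-- the level: low for large potential -/
noncomputable def lev (g : GL (Fin (m + 1)) F) : ℕ := (m + 1) * ((m + 1) * (m + 1)) - pot (piv g)

variable {R : Type*} [CommRing R]

lemma lev_rep_lt {T : Finset (Fin r)} {g : GL (Fin (m + 1)) F} (hT : ¬ T ⊆ asc ω g) :
    lev (rep (T.map ω) g) < lev g := by
  rcases rep_dichotomy (T.map ω) g with ⟨h, -⟩ | ⟨-, h⟩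
  · exact absurd ((inc_map_iff ω T g).1 h) hT
  · have := pot_le (piv (rep (T.map ω) g))
    unfold lev
    omega

lemma rep_of_subset {T : Finset (Fin r)} {g : GL (Fin (m + 1)) F} (hT : T ⊆ asc ω g) :
    g⁻¹ * rep (T.map ω) g ∈ parabolic F (∅ : Finset (Fin m)) := by
  rcases rep_dichotomy (T.map ω) g with ⟨-, h⟩ | ⟨h, -⟩
  · exact h
  · exact absurd ((inc_map_iff ω T g).2 hT) h

lemma eq_rep {c : ℕ} {f : Cochain F R (m := m) r c} (hf : IsInduced ω f)
    (T : {T : Finset (Fin r) // T.card = c}) (g : GL (Fin (m + 1)) F) :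
    f T g = f T (rep (T.1.map ω) g) := by
  conv_rhs => rw [← mul_inv_cancel_left g (rep (T.1.map ω) g)]
  exact (hf T g _ (isRep_rep _ g).1).symm

lemma isInduced_delta {c : ℕ} {f : Cochain F R (m := m) r (c + 1)} (hf : IsInduced ω f) :
    IsInduced ω (delta c f) := by
  intro T g p hp
  refine Finset.sum_congr rfl fun a _ => ?_
  by_cases h : a ∉ T.1
  · rw [dif_pos h, dif_pos h, hf _ g p fun i j hij => ?_]
    refine hp ?_
    by_contra hc
    -- blocks get coarser
    have hmono : ∀ (J J' : Finset (Fin m)), J ⊆ J' → ∀ i j, blockOf J i ≤ blockOf J j →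
        blockOf J' i ≤ blockOf J' j := by
      intro J J' hJ i j hle
      rcases le_total i j with hij' | hij'
      · exact blockOf_mono J' hij'
      · refine le_of_eq ?_
        have e := le_antisymm hle (blockOf_mono J hij')
        unfold blockOf at e ⊢
        refine congrArg Finset.card (Finset.Subset.antisymm (fun k hk => ?_) fun k hk => ?_)
        · simp only [Finset.mem_filter] at hk ⊢
          refine ⟨hk.1, ?_, hk.2.2⟩
          by_contra hkj
          have hsub : (Finset.univ.filter fun k : Fin m => k.val < j.val ∧ k ∉ J) ⊆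
              Finset.univ.filter fun k : Fin m => k.val < i.val ∧ k ∉ J := fun a ha => by
            simp only [Finset.mem_filter] at ha ⊢
            exact ⟨ha.1, lt_of_lt_of_le ha.2.1 hij', ha.2.2⟩
          have he := Finset.eq_of_subset_of_card_le hsub e.le
          have hkmem : k ∈ (Finset.univ.filter fun k : Fin m => k.val < j.val ∧ k ∉ J) := by
            rw [he]
            simp only [Finset.mem_filter]
            exact ⟨Finset.mem_univ _, hk.2.1, fun h => hk.2.2 (hJ h)⟩
          exact hkj (Finset.mem_filter.1 hkmem).2.1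
        · simp only [Finset.mem_filter] at hk ⊢
          exact ⟨hk.1, lt_of_lt_of_le hk.2.1 hij', hk.2.2⟩
    exact absurd (hmono _ _ (Finset.map_subset_map.2 (Finset.subset_insert a T.1)) _ _ (not_lt.1 hc)) (not_le.2 hij)
  · rw [dif_neg h, dif_neg h]

lemma sgn_swap {T : Finset (Fin r)} {a b : Fin r} (ha : a ∉ T) (hb : b ∉ T) (hab : a < b) :
    sgn (insert b T) a = sgn T a ∧ sgn (insert a T) b = -sgn T b := by
  constructor
  · unfold sgn
    rw [Finset.filter_insert, if_neg (not_lt.2 hab.le)]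
  · unfold sgn
    rw [Finset.filter_insert, if_pos hab, Finset.card_insert_of_notMem (fun h => ha (Finset.mem_filter.1 h).1),
      pow_succ (-1 : ℤ) (_ + 1)]
    ring

lemma delta_delta {c : ℕ} (g : Cochain F R (m := m) r (c + 2)) : delta c (delta (c + 1) g) = 0 := by
  classical
  funext T x
  let G : Fin r × Fin r → R := fun q => if h : q.1 ∉ T.1 ∧ q.2 ∉ insert q.1 T.1 then
    (sgn T.1 q.1 : R) * (sgn (insert q.1 T.1) q.2 : R) * g ⟨insert q.2 (insert q.1 T.1), by
      rw [Finset.card_insert_of_notMem h.2, Finset.card_insert_of_notMem h.1, T.2]⟩ x else 0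
  have hsum : delta c (delta (c + 1) g) T x = ∑ q : Fin r × Fin r, G q := by
    rw [Fintype.sum_prod_type]
    refine Finset.sum_congr rfl fun a _ => ?_
    by_cases ha : a ∉ T.1
    · rw [dif_pos ha]
      simp only [delta, Finset.mul_sum]
      refine Finset.sum_congr rfl fun b _ => ?_
      by_cases hb : b ∉ insert a T.1
      · simp only [G, dif_pos hb, dif_pos (show a ∉ T.1 ∧ b ∉ insert a T.1 from ⟨ha, hb⟩)]
        ring
      · simp only [G, dif_neg hb, dif_neg (show ¬ (a ∉ T.1 ∧ b ∉ insert a T.1) from fun h => hb h.2), mul_zero]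
    · rw [dif_neg ha]
      exact (Finset.sum_eq_zero fun b _ => dif_neg fun h : a ∉ T.1 ∧ b ∉ insert a T.1 => ha h.1).symm
  rw [hsum]
  refine Finset.sum_involution (fun q _ => q.swap) (fun q _ => ?_) (fun q _ hq => ?_) (fun q _ => Finset.mem_univ _)
    fun q _ => q.swap_swap
  · obtain ⟨a, b⟩ := q
    by_cases h : a ∉ T.1 ∧ b ∉ insert a T.1
    · obtain ⟨ha, hb⟩ := h
      have hne : b ≠ a := fun e => hb (by rw [e]; exact Finset.mem_insert_self _ _)
      have hb' : b ∉ T.1 := fun e => hb (Finset.mem_insert_of_mem e)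
      have ha' : a ∉ insert b T.1 := by simp [hne.symm, ha]
      simp only [G, Prod.swap_prod_mk, dif_pos (show a ∉ T.1 ∧ b ∉ insert a T.1 from ⟨ha, hb⟩),
        dif_pos (show b ∉ T.1 ∧ a ∉ insert b T.1 from ⟨hb', ha'⟩), Finset.insert_comm a b T.1]
      rcases lt_or_gt_of_ne hne with hlt | hlt
      · rw [(sgn_swap hb' ha hlt).1, (sgn_swap hb' ha hlt).2]
        push_cast; ring
      · rw [(sgn_swap ha hb' hlt).1, (sgn_swap ha hb' hlt).2]
        push_cast; ring
    · have h' : ¬ (b ∉ T.1 ∧ a ∉ insert b T.1) := fun ⟨hb, ha⟩ => h (by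
        simp only [Finset.mem_insert, not_or] at ha ⊢
        exact ⟨ha.2, Ne.symm ha.1, hb⟩)
      simp only [G, Prod.swap_prod_mk, dif_neg h, dif_neg h', add_zero]
  · obtain ⟨a, b⟩ := q
    intro e
    simp only [Prod.swap_prod_mk, Prod.mk.injEq] at e
    exact hq (dif_neg fun h => h.2 (by rw [e.1]; exact Finset.mem_insert_self _ _))

lemma delta_sub {c : ℕ} (f f' : Cochain F R (m := m) r (c + 1)) : delta c (f - f') = delta c f - delta c f' := by
  funext T g
  simp only [delta, Pi.sub_apply, ← Finset.sum_sub_distrib]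
  refine Finset.sum_congr rfl fun a _ => ?_
  split_ifs <;> ring

lemma delta_add {c : ℕ} (f f' : Cochain F R (m := m) r (c + 1)) : delta c (f + f') = delta c f + delta c f' := by
  funext T g
  simp only [delta, Pi.add_apply, ← Finset.sum_add_distrib]
  refine Finset.sum_congr rfl fun a _ => ?_
  split_ifs <;> ring

/-- the value of the correction at a reduced element -/
noncomputable def corr {c : ℕ} (f : Cochain F R (m := m) r (c + 1)) (N : ℕ)
    (S : {T : Finset (Fin r) // T.card = c + 2}) (x : GL (Fin (m + 1)) F) : R := by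
  classical exact if h : lev x = N ∧ ∃ a ∈ S.1, ∀ b ∈ asc ω x, a ≤ b then
    -(f ⟨S.1.erase h.2.choose, by rw [Finset.card_erase_of_mem h.2.choose_spec.1, S.2]; rfl⟩ x) else 0

/-- one step: kill the cycle at level `N` -/
lemma exists_step {c : ℕ} (f : Cochain F R (m := m) r (c + 1)) (hf : IsInduced ω f) (hd : delta c f = 0) (N : ℕ)
    (hlow : ∀ T g, lev g < N → f T g = 0) :
    ∃ g' : Cochain F R (m := m) r (c + 2), IsInduced ω g' ∧ ∀ T g, lev g ≤ N → delta (c + 1) g' T g = f T g := by
  classical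
  let g' : Cochain F R (m := m) r (c + 2) := fun S g => corr ω f N S (rep (S.1.map ω) g)
  have hcorr : ∀ (S : {T : Finset (Fin r) // T.card = c + 2}) (x : GL (Fin (m + 1)) F)
      (b : GL (Fin (m + 1)) F), b ∈ parabolic F (∅ : Finset (Fin m)) → corr ω f N S (x * b) = corr ω f N S x := by
    intro S x b hb
    have e1 : piv (x * b) = piv x := piv_mul x hb
    have e2 : lev (x * b) = lev x := by unfold lev; rw [e1]
    have e3 : asc ω (x * b) = asc ω x := asc_congr ω e1
    have e4 : ∀ T, f T (x * b) = f T x := fun T => hf T x b (borel_le _ hb)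
    simp only [corr, e2, e3, e4]
  have hg' : IsInduced ω g' := fun S g p hp => by
    have h := rep_congr (S.1.map ω) g hp
    show corr ω f N S (rep _ (g * p)) = corr ω f N S (rep _ g)
    conv_lhs => rw [← mul_inv_cancel_left (rep (S.1.map ω) g) (rep (S.1.map ω) (g * p))]
    exact hcorr S _ _ h
  have hfzero : ∀ (T : {T : Finset (Fin r) // T.card = c + 1}) g, lev g ≤ N → ¬ T.1 ⊆ asc ω g → f T g = 0 :=
    fun T g hg hT => by
      rw [eq_rep ω hf T g]
      exact hlow _ _ ((lev_rep_lt ω hT).trans_le hg)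
  refine ⟨g', hg', fun T x hx => ?_⟩
  have hterm : ∀ (S : {T : Finset (Fin r) // T.card = c + 2}),
      g' S x = if S.1 ⊆ asc ω x then corr ω f N S x else 0 := fun S => by
    split_ifs with hS
    · show corr ω f N S (rep _ x) = _
      conv_lhs => rw [← mul_inv_cancel_left x (rep (S.1.map ω) x)]
      exact hcorr S x _ (rep_of_subset ω hS)
    · show corr ω f N S (rep _ x) = 0
      rw [corr, dif_neg]
      rintro ⟨h, -⟩
      have := lev_rep_lt ω hS
      omega
  by_cases hT : T.1 ⊆ asc ω x
  swap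
  · rw [hfzero T x hx hT]
    refine Finset.sum_eq_zero fun a _ => ?_
    by_cases ha : a ∉ T.1
    · rw [dif_pos ha, hterm, if_neg fun h => hT ((Finset.subset_insert a T.1).trans h), mul_zero]
    · rw [dif_neg ha]
  rcases hx.lt_or_eq with hlt | hxN
  · rw [hlow T x hlt]
    refine Finset.sum_eq_zero fun a _ => ?_
    by_cases ha : a ∉ T.1
    · rw [dif_pos ha, hterm]
      split_ifs
      · rw [corr, dif_neg fun h => hlt.ne h.1, mul_zero]
      · rw [mul_zero]
    · rw [dif_neg ha]
  have hne : (asc ω x).Nonempty := (Finset.card_pos.1 (by rw [T.2]; omega : 0 < T.1.card)).mono hT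
  let a₀ := (asc ω x).min' hne
  have ha₀ : a₀ ∈ asc ω x := Finset.min'_mem _ _
  have hmin : ∀ b ∈ asc ω x, a₀ ≤ b := fun b hb => Finset.min'_le _ _ hb
  have hval : ∀ (S : {T : Finset (Fin r) // T.card = c + 2}), S.1 ⊆ asc ω x →
      corr ω f N S x = if h : a₀ ∈ S.1 then - f ⟨S.1.erase a₀, by rw [Finset.card_erase_of_mem h, S.2]; rfl⟩ x else 0 := by
    intro S hS
    by_cases h : a₀ ∈ S.1
    · have hex : lev x = N ∧ ∃ a ∈ S.1, ∀ b ∈ asc ω x, a ≤ b := ⟨hxN, a₀, h, hmin⟩
      have e : hex.2.choose = a₀ := le_antisymm (hex.2.choose_spec.2 a₀ ha₀) (hmin _ (hS hex.2.choose_spec.1))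
      rw [corr, dif_pos hex, dif_pos h]
      simp only [e]
    · rw [dif_neg h, corr, dif_neg]
      rintro ⟨-, a, ha, hb⟩
      exact h (le_antisymm (hmin a (hS ha)) (hb a₀ ha₀) ▸ ha)
  by_cases h0 : a₀ ∈ T.1
  swap
  · refine (Finset.sum_eq_single a₀ (fun a _ ha => ?_) (fun h => absurd (Finset.mem_univ _) h)).trans ?_
    · by_cases haT : a ∉ T.1
      · rw [dif_pos haT, hterm]
        split_ifs with hsub
        · rw [hval _ hsub, dif_neg (by simp [h0, ha.symm]), mul_zero]
        · rw [mul_zero]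
      · rw [dif_neg haT]
    · rw [dif_pos h0, hterm, if_pos (Finset.insert_subset ha₀ hT), hval _ (Finset.insert_subset ha₀ hT),
        dif_pos (Finset.mem_insert_self _ _)]
      have hs : sgn T.1 a₀ = -1 := by
        unfold sgn
        rw [show T.1.filter (fun t => t < a₀) = ∅ from Finset.filter_eq_empty_iff.2 fun t ht => not_lt.2 (hmin t (hT ht))]
        rfl
      rw [hs]
      simp only [Finset.erase_insert h0]
      push_cast; ring
  -- the cycle relation at the face opposite to `a₀`
  let T' : {T : Finset (Fin r) // T.card = c} := ⟨T.1.erase a₀, by rw [Finset.card_erase_of_mem h0, T.2]; rfl⟩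
  have hT' : a₀ ∉ T'.1 := Finset.notMem_erase _ _
  have hrel : delta c f T' x = 0 := by rw [hd]; rfl
  rw [delta, Finset.sum_eq_add_sum_sdiff_singleton_of_mem (Finset.mem_univ a₀)] at hrel
  have hs : sgn T'.1 a₀ = -1 := by
    unfold sgn
    rw [show T'.1.filter (fun t => t < a₀) = ∅ from Finset.filter_eq_empty_iff.2 fun t ht =>
      not_lt.2 (hmin t (hT (Finset.mem_of_mem_erase ht)))]
    rfl
  have hins : insert a₀ T'.1 = T.1 := Finset.insert_erase h0
  rw [dif_pos hT', hs] at hrel
  simp only [hins, Subtype.coe_eta] at hrel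
  have hmain : delta (c + 1) g' T x = ∑ a ∈ Finset.univ \ {a₀}, if h : a ∉ T'.1 then
      (sgn T'.1 a : R) * f ⟨insert a T'.1, by rw [Finset.card_insert_of_notMem h, T'.2]⟩ x else 0 := by
    rw [delta, Finset.sum_eq_add_sum_sdiff_singleton_of_mem (Finset.mem_univ a₀), dif_neg (not_not.2 h0), zero_add]
    refine Finset.sum_congr rfl fun a ha => ?_
    have hne' : a ≠ a₀ := by simpa using ha
    by_cases haT : a ∈ T.1
    · rw [dif_neg (not_not.2 haT), dif_neg (not_not.2 (Finset.mem_erase.2 ⟨hne', haT⟩))]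
    have haT' : a ∉ T'.1 := fun h => haT (Finset.mem_of_mem_erase h)
    rw [dif_pos haT, dif_pos haT', hterm]
    by_cases hsub : insert a T.1 ⊆ asc ω x
    · have h0' : a₀ < a := (hmin a (hsub (Finset.mem_insert_self _ _))).lt_of_ne hne'.symm
      have hs' : sgn T.1 a = -sgn T'.1 a := by
        have := (sgn_swap hT' haT' h0').2
        rwa [hins] at this
      rw [if_pos hsub, hval _ hsub, dif_pos (Finset.mem_insert_of_mem h0), hs']
      simp only [Finset.erase_insert_of_ne hne']
      push_cast; ring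
    · rw [if_neg hsub, mul_zero, hfzero _ x hx fun h => hsub ?_, mul_zero]
      rw [← hins, Finset.insert_comm]
      exact Finset.insert_subset ha₀ h
  rw [hmain]
  push_cast at hrel
  linear_combination hrel

theorem exact_complex {c : ℕ} (f : Cochain F R (m := m) r (c + 1)) (hf : IsInduced ω f) (hd : delta c f = 0) :
    ∃ g : Cochain F R (m := m) r (c + 2), IsInduced ω g ∧ delta (c + 1) g = f := by
  suffices h : ∀ N, ∃ g : Cochain F R (m := m) r (c + 2), IsInduced ω g ∧
      ∀ T x, lev x < N → delta (c + 1) g T x = f T x by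
    obtain ⟨g, hg, h⟩ := h ((m + 1) * ((m + 1) * (m + 1)) + 1)
    exact ⟨g, hg, funext fun T => funext fun x => h T x (by unfold lev; omega)⟩
  intro N
  induction N with
  | zero => exact ⟨0, fun _ _ _ _ => rfl, fun T x h => absurd h (Nat.not_lt_zero _)⟩
  | succ N ih =>
    obtain ⟨g, hg, hlow⟩ := ih
    have hd' : delta c (f - delta (c + 1) g) = 0 := by rw [delta_sub, hd, delta_delta, sub_zero]
    have hf' : IsInduced ω (f - delta (c + 1) g) := fun T x p hp => by
      simp only [Pi.sub_apply, hf T x p hp, isInduced_delta ω hg T x p hp]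
    obtain ⟨g', hg', h'⟩ := exists_step ω (f - delta (c + 1) g) hf' hd' N fun T x hx => by
      rw [Pi.sub_apply, Pi.sub_apply, hlow T x hx, sub_self]
    refine ⟨g + g', fun T x p hp => by simp only [Pi.add_apply, hg T x p hp, hg' T x p hp], fun T x hx => ?_⟩
    rw [delta_add, Pi.add_apply, Pi.add_apply, h' T x (Nat.lt_succ_iff.1 hx)]
    simp only [Pi.sub_apply]
    ring

end Groth.Agent.ParCx
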