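import Groth.Prelude.Def_W4c3dlvarstrshPar
import Mathlib

/-!
Pivot forms for cosets of standard parabolic subgroups of the general linear group.
-/

set_option autoImplicit false

open Matrix W4c3dlvarstrsh

namespace Groth.Agent.ParCx

variable {F : Type*} [Field F] {m : ℕ}

/-- the lowest nonzero row of a column -/
noncomputable def pv (g : GL (Fin (m + 1)) F) (j : Fin (m + 1)) : Fin (m + 1) := by
  classical exact (Finset.univ.filter fun i => (g : Matrix (Fin (m + 1)) (Fin (m + 1)) F) i j ≠ 0).sup id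

lemma col_ne_zero (g : GL (Fin (m + 1)) F) (j : Fin (m + 1)) :
    ∃ i, (g : Matrix (Fin (m + 1)) (Fin (m + 1)) F) i j ≠ 0 := by
  by_contra h
  push Not at h
  have h1 : (g : Matrix (Fin (m + 1)) (Fin (m + 1)) F).det = 0 := Matrix.det_eq_zero_of_column_eq_zero j h
  exact ((Matrix.isUnit_iff_isUnit_det _).1 g.isUnit).ne_zero h1

lemma pv_ne_zero (g : GL (Fin (m + 1)) F) (j : Fin (m + 1)) :
    (g : Matrix (Fin (m + 1)) (Fin (m + 1)) F) (pv g j) j ≠ 0 := by
  classical
  obtain ⟨i, hi⟩ := col_ne_zero g j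
  obtain ⟨a, ha, he⟩ := Finset.exists_mem_eq_sup (Finset.univ.filter fun i => (g : Matrix _ _ F) i j ≠ 0)
    ⟨i, Finset.mem_filter.2 ⟨Finset.mem_univ _, hi⟩⟩ id
  rw [pv, he]
  exact (Finset.mem_filter.1 ha).2

lemma le_pv {g : GL (Fin (m + 1)) F} {i j : Fin (m + 1)}
    (h : (g : Matrix (Fin (m + 1)) (Fin (m + 1)) F) i j ≠ 0) : i ≤ pv g j := by
  classical
  exact Finset.le_sup (f := id) (Finset.mem_filter.2 ⟨Finset.mem_univ _, h⟩)

lemma eq_zero_of_pv_lt {g : GL (Fin (m + 1)) F} {i j : Fin (m + 1)} (h : pv g j < i) :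
    (g : Matrix (Fin (m + 1)) (Fin (m + 1)) F) i j = 0 := by
  by_contra hc
  exact absurd (le_pv hc) (not_le.2 h)

lemma pv_eq {g : GL (Fin (m + 1)) F} {i j : Fin (m + 1)}
    (h : (g : Matrix (Fin (m + 1)) (Fin (m + 1)) F) i j ≠ 0)
    (h' : ∀ a, i < a → (g : Matrix (Fin (m + 1)) (Fin (m + 1)) F) a j = 0) : pv g j = i := by
  refine le_antisymm ?_ (le_pv h)
  by_contra hc
  exact pv_ne_zero g j (h' _ (not_le.1 hc))

lemma pv_mul {x : GL (Fin (m + 1)) F} (hx : Function.Injective (pv x)) (p : GL (Fin (m + 1)) F) (j : Fin (m + 1)) :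
    ∃ i, (p : Matrix (Fin (m + 1)) (Fin (m + 1)) F) i j ≠ 0 ∧ pv (x * p) j = pv x i ∧
      ∀ a, (p : Matrix (Fin (m + 1)) (Fin (m + 1)) F) a j ≠ 0 → pv x a ≤ pv x i := by
  classical
  obtain ⟨i₀, hi₀⟩ := col_ne_zero p j
  obtain ⟨i, hi, hmax⟩ := (Finset.univ.filter fun i => (p : Matrix _ _ F) i j ≠ 0).exists_max_image (pv x)
    ⟨i₀, Finset.mem_filter.2 ⟨Finset.mem_univ _, hi₀⟩⟩
  have hmax' : ∀ a, (p : Matrix (Fin (m + 1)) (Fin (m + 1)) F) a j ≠ 0 → pv x a ≤ pv x i :=
    fun a ha => hmax a (Finset.mem_filter.2 ⟨Finset.mem_univ _, ha⟩)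
  refine ⟨i, (Finset.mem_filter.1 hi).2, pv_eq ?_ fun a ha => ?_, hmax'⟩
  · rw [Units.val_mul, Matrix.mul_apply, Finset.sum_eq_single i]
    · exact mul_ne_zero (pv_ne_zero x i) (Finset.mem_filter.1 hi).2
    · intro b _ hb
      by_cases hp : (p : Matrix (Fin (m + 1)) (Fin (m + 1)) F) b j = 0
      · rw [hp, mul_zero]
      · rw [eq_zero_of_pv_lt ((hmax' b hp).lt_of_ne fun e => hb (hx e)), zero_mul]
    · intro h; exact absurd (Finset.mem_univ i) h
  · rw [Units.val_mul, Matrix.mul_apply]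
    refine Finset.sum_eq_zero fun b _ => ?_
    by_cases hp : (p : Matrix (Fin (m + 1)) (Fin (m + 1)) F) b j = 0
    · rw [hp, mul_zero]
    · rw [eq_zero_of_pv_lt ((hmax' b hp).trans_lt ha), zero_mul]

lemma blockOf_mono (J : Finset (Fin m)) : Monotone (blockOf J) := fun i j h => by
  unfold blockOf
  exact Finset.card_le_card fun k hk => by
    simp only [Finset.mem_filter] at hk ⊢
    exact ⟨hk.1, lt_of_lt_of_le hk.2.1 h, hk.2.2⟩

lemma blockOf_empty (i : Fin (m + 1)) : blockOf (∅ : Finset (Fin m)) i = i.val := by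
  unfold blockOf
  have e : ((Finset.univ : Finset (Fin m)).filter fun k => k.val < i.val ∧ k ∉ (∅ : Finset (Fin m))).map Fin.valEmbedding =
      Finset.range i.val := by
    ext a
    simp only [Finset.mem_map, Finset.mem_filter, Finset.mem_univ, true_and, Finset.notMem_empty, not_false_eq_true,
      and_true, Fin.valEmbedding_apply, Finset.mem_range]
    exact ⟨fun ⟨k, hk, e⟩ => e ▸ hk, fun h => ⟨⟨a, by omega⟩, h, rfl⟩⟩
  rw [← Finset.card_map Fin.valEmbedding, e, Finset.card_range]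

lemma blockOf_succ (J : Finset (Fin m)) (k : Fin m) :
    blockOf J k.succ = blockOf J k.castSucc + if k ∈ J then 0 else 1 := by
  unfold blockOf
  split_ifs with h
  · rw [add_zero]
    refine congrArg Finset.card (Finset.filter_congr fun a _ => ?_)
    simp only [Fin.val_succ, Fin.val_castSucc]
    exact ⟨fun ⟨h1, h2⟩ => ⟨lt_of_le_of_ne (Nat.lt_succ_iff.1 h1) fun e => h2 (Fin.ext e ▸ h), h2⟩,
      fun ⟨h1, h2⟩ => ⟨by omega, h2⟩⟩
  · rw [← Finset.card_insert_of_notMem (a := k) (by simp)]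
    refine congrArg Finset.card ?_
    ext a
    simp only [Finset.mem_filter, Finset.mem_univ, true_and, Finset.mem_insert, Fin.val_succ, Fin.val_castSucc]
    constructor
    · rintro ⟨h1, h2⟩
      rcases (Nat.lt_succ_iff.1 h1).eq_or_lt with e | e
      · exact Or.inl (Fin.ext e)
      · exact Or.inr ⟨e, h2⟩
    · rintro (rfl | ⟨h1, h2⟩)
      · exact ⟨Nat.lt_succ_self _, h⟩
      · exact ⟨by omega, h2⟩

/-- increasing inside the blocks -/
def Inc (J : Finset (Fin m)) (w : Fin (m + 1) → Fin (m + 1)) : Prop :=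
  ∀ i j, i < j → blockOf J i = blockOf J j → w i < w j

lemma inc_empty (w : Fin (m + 1) → Fin (m + 1)) : Inc (∅ : Finset (Fin m)) w := fun i j h he => by
  rw [blockOf_empty, blockOf_empty] at he
  exact absurd (Fin.ext he) h.ne

lemma inc_iff (J : Finset (Fin m)) (w : Fin (m + 1) → Fin (m + 1)) :
    Inc J w ↔ ∀ k ∈ J, w k.castSucc < w k.succ := by
  refine ⟨fun h k hk => h _ _ Fin.castSucc_lt_succ (by rw [blockOf_succ, if_pos hk, add_zero]),
    fun h i j => ?_⟩
  induction j using Fin.induction with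
  | zero => exact fun h => absurd h (by simp)
  | succ k ih =>
    intro hij he
    have hle : i ≤ k.castSucc := Fin.le_castSucc_iff.2 hij
    have h1 := blockOf_mono J hle
    have h2 := blockOf_mono J (Fin.castSucc_lt_succ (i := k)).le
    have hk : k ∈ J := by
      by_contra hk
      rw [blockOf_succ, if_neg hk] at he
      omega
    rcases hle.eq_or_lt with rfl | hlt
    · exact h k hk
    · exact (ih hlt (by omega)).trans (h k hk)

/-- reduced element of a parabolic coset -/
def IsRep (J : Finset (Fin m)) (g x : GL (Fin (m + 1)) F) : Prop :=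
  g⁻¹ * x ∈ parabolic F J ∧ Function.Injective (pv x) ∧ Inc J (pv x)

lemma borel_le (J : Finset (Fin m)) : parabolic F (∅ : Finset (Fin m)) ≤ parabolic F J := fun p hp i j h => by
  refine hp (show blockOf ∅ j < blockOf ∅ i from ?_)
  rw [blockOf_empty, blockOf_empty]
  by_contra hc
  exact absurd (blockOf_mono J (Fin.le_def.2 (not_lt.1 hc))) (not_le.2 h)

/-- uniqueness of reduced elements -/
theorem rep_unique {J : Finset (Fin m)} {g x y : GL (Fin (m + 1)) F} (hx : IsRep J g x) (hy : IsRep J g y) :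
    x⁻¹ * y ∈ parabolic F (∅ : Finset (Fin m)) ∧ pv y = pv x := by
  classical
  have hp : x⁻¹ * y ∈ parabolic F J := by
    have h1 := (parabolic F J).mul_mem ((parabolic F J).inv_mem hx.1) hy.1
    have e : (g⁻¹ * x)⁻¹ * (g⁻¹ * y) = x⁻¹ * y := by group
    rwa [e] at h1
  have hmul : ∀ j, ∃ i, ((x⁻¹ * y : GL (Fin (m + 1)) F) : Matrix (Fin (m + 1)) (Fin (m + 1)) F) i j ≠ 0 ∧
      pv y j = pv x i ∧ blockOf J i ≤ blockOf J j ∧
      ∀ a, ((x⁻¹ * y : GL (Fin (m + 1)) F) : Matrix (Fin (m + 1)) (Fin (m + 1)) F) a j ≠ 0 → pv x a ≤ pv x i := by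
    intro j
    obtain ⟨i, h1, h2, h3⟩ := pv_mul hx.2.1 (x⁻¹ * y) j
    rw [mul_inv_cancel_left] at h2
    refine ⟨i, h1, h2, ?_, h3⟩
    by_contra hc
    exact h1 (hp (not_le.1 hc))
  -- equal pivot sets up to each block
  have himg : ∀ b : ℕ, (Finset.univ.filter fun j => blockOf J j ≤ b).image (pv y) =
      (Finset.univ.filter fun j => blockOf J j ≤ b).image (pv x) := fun b => by
    refine Finset.eq_of_subset_of_card_le (fun v hv => ?_) ?_
    · obtain ⟨j, hj, rfl⟩ := Finset.mem_image.1 hv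
      obtain ⟨i, -, h2, h3, -⟩ := hmul j
      exact Finset.mem_image.2 ⟨i, Finset.mem_filter.2 ⟨Finset.mem_univ _, h3.trans (Finset.mem_filter.1 hj).2⟩, h2.symm⟩
    · rw [Finset.card_image_of_injective _ hx.2.1, Finset.card_image_of_injective _ hy.2.1]
  have hblock : ∀ j i, pv y j = pv x i → blockOf J i = blockOf J j := fun j i h => by
    refine le_antisymm ?_ ?_
    · obtain ⟨i', -, h2, h3, -⟩ := hmul j
      rwa [hx.2.1 (h.symm.trans h2)]
    · have : pv x i ∈ (Finset.univ.filter fun j => blockOf J j ≤ blockOf J i).image (pv x) :=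
        Finset.mem_image.2 ⟨i, Finset.mem_filter.2 ⟨Finset.mem_univ _, le_rfl⟩, rfl⟩
      rw [← himg] at this
      obtain ⟨j', hj', he⟩ := Finset.mem_image.1 this
      rw [hy.2.1 (h.trans he.symm)]
      exact (Finset.mem_filter.1 hj').2
  have hsurj : Function.Surjective (pv x) := Finite.surjective_of_injective hx.2.1
  have hsurj' : Function.Surjective (pv y) := Finite.surjective_of_injective hy.2.1
  have heq : ∀ j, pv y j = pv x j := fun j => by
    induction j using WellFoundedLT.induction with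
    | ind j ih =>
      obtain ⟨i, hi⟩ := hsurj (pv y j)
      have hb := hblock j i hi.symm
      rcases lt_trichotomy i j with h | h | h
      · exact absurd (hy.2.1 ((ih i h).trans hi)) h.ne
      · rw [← hi, h]
      · -- the element sent to `pv x j` by `pv y` gives a contradiction
        obtain ⟨l, hl⟩ := hsurj' (pv x j)
        have hbl := hblock l j hl
        rcases lt_trichotomy l j with h' | h' | h'
        · exact absurd (hx.2.1 ((ih l h').symm.trans hl)) h'.ne
        · rw [← hl, h']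
        · have e1 := hx.2.2 j i h hb.symm
          rw [hi] at e1
          have e2 := hy.2.2 j l h' hbl
          rw [hl] at e2
          exact absurd (e1.trans e2) (lt_irrefl _)
  refine ⟨fun a j h => ?_, funext heq⟩
  rw [blockOf_empty, blockOf_empty] at h
  by_contra hne
  obtain ⟨i, -, h2, -, h4⟩ := hmul j
  have hij : i = j := hx.2.1 (h2.symm.trans (heq j))
  have hja : blockOf J a = blockOf J j := by
    refine le_antisymm ?_ (blockOf_mono J (Fin.le_def.2 h.le))
    by_contra hc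
    exact hne (hp (not_le.1 hc))
  exact absurd (hij ▸ h4 a hne) (not_le.2 (hx.2.2 j a (Fin.lt_def.2 h) hja.symm))

/-- a permutation of the columns -/
noncomputable def permG (σ : Equiv.Perm (Fin (m + 1))) : GL (Fin (m + 1)) F where
  val := (1 : Matrix (Fin (m + 1)) (Fin (m + 1)) F).submatrix id σ
  inv := (1 : Matrix (Fin (m + 1)) (Fin (m + 1)) F).submatrix id σ.symm
  val_inv := by
    ext i j
    simp [Matrix.mul_apply, Matrix.one_apply]
  inv_val := by
    ext i j
    simp [Matrix.mul_apply, Matrix.one_apply]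

lemma mul_permG_apply (x : GL (Fin (m + 1)) F) (σ : Equiv.Perm (Fin (m + 1))) (i j : Fin (m + 1)) :
    ((x * permG σ : GL (Fin (m + 1)) F) : Matrix (Fin (m + 1)) (Fin (m + 1)) F) i j =
      (x : Matrix (Fin (m + 1)) (Fin (m + 1)) F) i (σ j) := by
  simp [permG, Matrix.mul_apply, Matrix.one_apply]

lemma pv_mul_permG (x : GL (Fin (m + 1)) F) (σ : Equiv.Perm (Fin (m + 1))) :
    pv (x * permG σ) = pv x ∘ σ := funext fun j =>
  pv_eq (by rw [mul_permG_apply]; exact pv_ne_zero x _) fun a ha => by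
    rw [mul_permG_apply]; exact eq_zero_of_pv_lt ha

lemma permG_mem {J : Finset (Fin m)} {σ : Equiv.Perm (Fin (m + 1))} (h : ∀ i, blockOf J (σ i) = blockOf J i) :
    (permG σ : GL (Fin (m + 1)) F) ∈ parabolic F J := fun i j hij => by
  have : i ≠ σ j := fun e => by rw [e, h j] at hij; exact lt_irrefl _ hij
  simp [permG, this]

/-- the potential maximised by increasing pivots -/
def pot (w : Fin (m + 1) → Fin (m + 1)) : ℕ := ∑ i, i.val * (w i).val

lemma pot_le (w : Fin (m + 1) → Fin (m + 1)) : pot w ≤ (m + 1) * ((m + 1) * (m + 1)) := by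
  refine (Finset.sum_le_card_nsmul _ _ ((m + 1) * (m + 1)) fun i _ => Nat.mul_le_mul i.2.le (w i).2.le).trans ?_
  simp

lemma pot_swap_lt {w : Fin (m + 1) → Fin (m + 1)} {i j : Fin (m + 1)} (hij : i < j) (hw : w j < w i) :
    pot w < pot (w ∘ Equiv.swap i j) := by
  have key : ∀ v : Fin (m + 1) → Fin (m + 1), pot v = i.val * (v i).val + j.val * (v j).val +
      ∑ a ∈ ((Finset.univ.erase i).erase j), a.val * (v a).val := fun v => by
    rw [pot, ← Finset.add_sum_erase _ _ (Finset.mem_univ i),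
      ← Finset.add_sum_erase _ _ (Finset.mem_erase.2 ⟨hij.ne', Finset.mem_univ j⟩), add_assoc]
  rw [key w, key (w ∘ Equiv.swap i j)]
  simp only [Function.comp_apply, Equiv.swap_apply_left, Equiv.swap_apply_right]
  have e : ∑ a ∈ ((Finset.univ.erase i).erase j), a.val * (w (Equiv.swap i j a)).val =
      ∑ a ∈ ((Finset.univ.erase i).erase j), a.val * (w a).val := Finset.sum_congr rfl fun a ha => by
    simp only [Finset.mem_erase] at ha
    rw [Equiv.swap_apply_of_ne_of_ne ha.2.1 ha.1]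
  rw [e]
  have h1 : i.val < j.val := hij
  have h2 : (w j).val < (w i).val := hw
  nlinarith

theorem exists_sort {J : Finset (Fin m)} (w : Fin (m + 1) → Fin (m + 1)) (hw : Function.Injective w) :
    ∃ σ : Equiv.Perm (Fin (m + 1)), (∀ i, blockOf J (σ i) = blockOf J i) ∧ Inc J (w ∘ σ) ∧
      (¬ Inc J w → pot w < pot (w ∘ σ)) := by
  classical
  obtain ⟨σ, hσ, hmax⟩ := (Finset.univ.filter fun σ : Equiv.Perm (Fin (m + 1)) =>
    ∀ i, blockOf J (σ i) = blockOf J i).exists_max_image (fun σ => pot (w ∘ σ)) ⟨1, by simp⟩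
  simp only [Finset.mem_filter, Finset.mem_univ, true_and] at hσ hmax
  have hswap : ∀ (τ : Equiv.Perm (Fin (m + 1))), (∀ i, blockOf J (τ i) = blockOf J i) →
      ¬ Inc J (w ∘ τ) → pot (w ∘ τ) < pot (w ∘ σ) := by
    intro τ hτ hn
    unfold Inc at hn
    push Not at hn
    obtain ⟨i, j, hij, hb, hle⟩ := hn
    have hlt : (w ∘ τ) j < (w ∘ τ) i := hle.lt_of_ne fun e => hij.ne' (τ.injective (hw e))
    refine (pot_swap_lt hij hlt).trans_le ?_
    refine hmax (τ * Equiv.swap i j) fun a => ?_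
    rw [Equiv.Perm.mul_apply, hτ]
    rcases eq_or_ne a i with rfl | ha
    · rw [Equiv.swap_apply_left, hb]
    rcases eq_or_ne a j with rfl | hb'
    · rw [Equiv.swap_apply_right, hb]
    · rw [Equiv.swap_apply_of_ne_of_ne ha hb']
  refine ⟨σ, hσ, ?_, fun hn => hswap 1 (fun _ => rfl) hn⟩
  by_contra hn
  exact lt_irrefl _ (hswap σ hσ hn)

/-- every Borel coset contains an element with distinct pivots -/
theorem exists_reduced (g : GL (Fin (m + 1)) F) :
    ∃ x : GL (Fin (m + 1)) F, g⁻¹ * x ∈ parabolic F (∅ : Finset (Fin m)) ∧ Function.Injective (pv x) := by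
  classical
  let P : ℕ → Prop := fun n => ∃ x : GL (Fin (m + 1)) F,
    g⁻¹ * x ∈ parabolic F (∅ : Finset (Fin m)) ∧ ∑ j, (pv x j).val = n
  have hP : ∃ n, P n := ⟨_, g, by rw [inv_mul_cancel]; exact one_mem _, rfl⟩
  obtain ⟨x, hx, hn⟩ := Nat.find_spec hP
  refine ⟨x, hx, ?_⟩
  by_contra hinj
  obtain ⟨i, j, hij, he⟩ : ∃ i j, i < j ∧ pv x i = pv x j := by
    unfold Function.Injective at hinj
    push Not at hinj
    obtain ⟨a, b, he, hne⟩ := hinj
    rcases lt_or_gt_of_ne hne with h | h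
    exacts [⟨a, b, h, he⟩, ⟨b, a, h, he.symm⟩]
  let c := -((x : Matrix (Fin (m + 1)) (Fin (m + 1)) F) (pv x i) j / (x : Matrix (Fin (m + 1)) (Fin (m + 1)) F) (pv x i) i)
  let p : GL (Fin (m + 1)) F := Matrix.GeneralLinearGroup.mkOfDetNeZero (Matrix.transvection i j c)
    (by rw [Matrix.det_transvection_of_ne _ _ hij.ne]; exact one_ne_zero)
  have hp : p ∈ parabolic F (∅ : Finset (Fin m)) := fun a b hab => by
    rw [blockOf_empty, blockOf_empty] at hab
    have h1 : a ≠ b := fun e => by rw [e] at hab; exact lt_irrefl _ hab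
    have h2 : ¬ (i = a ∧ j = b) := fun ⟨e1, e2⟩ => by
      rw [← e1, ← e2] at hab; exact absurd hab (not_lt.2 (Fin.lt_def.1 hij).le)
    show Matrix.transvection i j c a b = 0
    rw [Matrix.transvection, Matrix.add_apply, Matrix.one_apply_ne h1, Matrix.single_apply, if_neg h2, add_zero]
  have happ : ∀ a b, ((x * p : GL (Fin (m + 1)) F) : Matrix (Fin (m + 1)) (Fin (m + 1)) F) a b =
      ((x : Matrix (Fin (m + 1)) (Fin (m + 1)) F) * Matrix.transvection i j c) a b := fun a b => rfl
  have hne : ∀ b, b ≠ j → pv (x * p) b = pv x b := fun b hb =>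
    pv_eq (by rw [happ, Matrix.mul_transvection_apply_of_ne (hb := hb)]; exact pv_ne_zero x b) fun a ha => by
      rw [happ, Matrix.mul_transvection_apply_of_ne (hb := hb)]; exact eq_zero_of_pv_lt ha
  have hj : pv (x * p) j < pv x j := by
    by_contra hc
    refine pv_ne_zero (x * p) j ?_
    rw [happ, Matrix.mul_transvection_apply_same]
    rcases (not_lt.1 hc).eq_or_lt with e | e
    · rw [← e, ← he]
      have := pv_ne_zero x i
      simp only [c]
      field_simp
      ring
    · rw [eq_zero_of_pv_lt e, eq_zero_of_pv_lt (he ▸ e), mul_zero, add_zero]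
  refine Nat.find_min hP (m := ∑ b, (pv (x * p) b).val) ?_ ⟨x * p, ?_, rfl⟩
  · rw [← hn]
    refine Finset.sum_lt_sum (fun b _ => ?_) ⟨j, Finset.mem_univ j, hj⟩
    rcases eq_or_ne b j with rfl | hb
    · exact Fin.le_def.1 hj.le
    · rw [hne b hb]
  · rw [← mul_assoc]; exact mul_mem hx hp

theorem exists_rep (J : Finset (Fin m)) (g : GL (Fin (m + 1)) F) : ∃ x, IsRep J g x := by
  obtain ⟨x, hx, hinj⟩ := exists_reduced g
  obtain ⟨σ, hσ, hinc, -⟩ := exists_sort (J := J) (pv x) hinj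
  refine ⟨x * permG σ, ?_, ?_, ?_⟩
  · rw [← mul_assoc]; exact mul_mem (borel_le J hx) (permG_mem hσ)
  · rw [pv_mul_permG]; exact hinj.comp σ.injective
  · rwa [pv_mul_permG]

end Groth.Agent.ParCx
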